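import Mathlib
import Cfsg.Agent.Lib.Helper50.HUPT.Defs

/-!
# HUPT project (S3360): package [XN]
-/

set_option autoImplicit false

universe u v

namespace Cfsg.Agent.Lib.Helper90.HUPT

open Cfsg.Agent.Lib.Helper50.HUPT

theorem toE_mul' {q : ℕ} [Fact q.Prime] {V : Type u} [AddCommGroup V] [Module (ZMod q) V]
    {G : Type v} [Group G] (ρ : G →* (V ≃ₗ[ZMod q] V)) (a b : G) :
    toE ρ (a * b) = toE ρ a * toE ρ b := by
  ext v
  simp [toE]

/-- In a group where `cm a b` commutes with `a`: `cm (a ^ k) b = (cm a b) ^ k`. -/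
theorem cm_pow_left' {G : Type*} [Group G] {a b : G} (h : cm a b * a = a * cm a b) (k : ℕ) :
    cm (a ^ k) b = (cm a b) ^ k := by
  induction k with
  | zero => simp [cm]
  | succ k ih =>
    have h1 : cm (a ^ (k + 1)) b = a * cm (a ^ k) b * a⁻¹ * cm a b := by
      unfold cm
      rw [pow_succ']
      group
    have h2 : a * (cm a b) ^ k = (cm a b) ^ k * a :=
      ((Commute.pow_left (show Commute (cm a b) a from h) k).eq).symm
    rw [h1, ih, h2, mul_inv_cancel_right, pow_succ]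

theorem zm_normal' {G : Type*} [Group G] (M : Subgroup G) (hM : M.Normal) : (ZM M).Normal := by
  constructor
  intro n hn g
  have hn' : n ∈ M ⊓ Subgroup.centralizer (M : Set G) := hn
  obtain ⟨hnM, hnC⟩ := Subgroup.mem_inf.mp hn'
  show g * n * g⁻¹ ∈ M ⊓ Subgroup.centralizer (M : Set G)
  refine Subgroup.mem_inf.mpr ⟨hM.conj_mem n hnM g, ?_⟩
  rw [Subgroup.mem_centralizer_iff] at hnC ⊢
  intro m hm
  have h1 := hnC (g⁻¹ * m * g) (by simpa using hM.conj_mem m hm g⁻¹)
  calc m * (g * n * g⁻¹) = g * (g⁻¹ * m * g * n) * g⁻¹ := by group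
    _ = g * (n * (g⁻¹ * m * g)) * g⁻¹ := by rw [h1]
    _ = g * n * g⁻¹ * m := by group

theorem zm_ab' {G : Type*} [Group G] (M : Subgroup G) : Ab (ZM M) := by
  intro a ha b hb
  have ha' : a ∈ M ⊓ Subgroup.centralizer (M : Set G) := ha
  have hb' : b ∈ M ⊓ Subgroup.centralizer (M : Set G) := hb
  obtain ⟨haM, -⟩ := Subgroup.mem_inf.mp ha'
  obtain ⟨-, hbC⟩ := Subgroup.mem_inf.mp hb'
  exact Subgroup.mem_centralizer_iff.mp hbC a haM

/-- In a finite cyclic subgroup, an element killed by the prime `r` lies in the subgroup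
generated by any element of order `r`. -/
theorem cyc_mem' {G : Type*} [Group G] (A : Subgroup G) [Finite A] (hcyc : IsCyclic A) {r : ℕ}
    (hr : r.Prime) {z c : G} (hz : z ∈ A) (hzord : orderOf z = r) (hc : c ∈ A)
    (hcr : c ^ r = 1) : c ∈ Subgroup.zpowers z := by
  classical
  haveI := Fintype.ofFinite A
  have hle := IsCyclic.card_pow_eq_one_le (α := A) hr.pos
  set S : Finset A := Finset.univ.filter (fun g : A => g ^ r = 1) with hS
  set T : Finset A := (Finset.range r).image (fun k => (⟨z, hz⟩ : A) ^ k) with hT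
  have hz'ord : orderOf (⟨z, hz⟩ : A) = r := by
    rw [← hzord]
    exact Subgroup.orderOf_mk z hz
  have hTS : T ⊆ S := by
    intro g hg
    rw [hT, Finset.mem_image] at hg
    obtain ⟨k, -, rfl⟩ := hg
    rw [hS, Finset.mem_filter]
    refine ⟨Finset.mem_univ _, ?_⟩
    rw [← pow_mul, mul_comm, pow_mul, ← hz'ord, pow_orderOf_eq_one, one_pow]
  have hTcard : T.card = r := by
    rw [hT, Finset.card_image_of_injOn, Finset.card_range]
    intro i hi j hj hij
    have := pow_injOn_Iio_orderOf (x := (⟨z, hz⟩ : A))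
    apply this
    · simpa [hz'ord] using hi
    · simpa [hz'ord] using hj
    · exact hij
  have hTeq : T = S := Finset.eq_of_subset_of_card_le hTS (hle.trans_eq hTcard.symm)
  have hcS : (⟨c, hc⟩ : A) ∈ S := by
    rw [hS, Finset.mem_filter]
    refine ⟨Finset.mem_univ _, ?_⟩
    apply Subtype.ext
    simpa using hcr
  rw [← hTeq, hT, Finset.mem_image] at hcS
  obtain ⟨k, -, hk⟩ := hcS
  refine ⟨(k : ℤ), ?_⟩
  have := congrArg Subtype.val hk
  simpa using this

theorem pkgXN (hAbn : PkgAbn.{u, v}) (hSq : PkgSq.{v}) (hDeg : PkgDeg.{u, v})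
    (hXSyl : PkgXSyl.{v}) : PkgXN.{u, v} := by
  intro q _ V _ _ _ _ G _ _ ρ hinj hTr n p r hn hcard hp hr hrp M hM
  obtain ⟨hMn, hMr, hCl2, hpow, hnab, hFpf⟩ := hM
  have hq : q.Prime := Fact.out
  haveI : Fact r.Prime := ⟨hr⟩
  have hAn : (ZM M).Normal := zm_normal' M hMn
  have hAab : Ab (ZM M) := zm_ab' M
  obtain ⟨hcyc, hfld, -⟩ := hAbn ρ hinj hTr (ZM M) hAn hAab
  have hex : ∃ a ∈ M, ∃ b ∈ M, a * b ≠ b * a := by
    unfold Cfsg.Agent.Lib.Helper50.HUPT.Ab at hnab
    push_neg at hnab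
    exact hnab
  obtain ⟨a, ha, b, hb, hab⟩ := hex
  have hcmM : ∀ x ∈ M, ∀ y ∈ M, cm x y ∈ M := by
    intro x hx y hy
    exact M.mul_mem (M.mul_mem (M.mul_mem hx hy) (M.inv_mem hx)) (M.inv_mem hy)
  have hcmA : ∀ x ∈ M, ∀ y ∈ M, cm x y ∈ ZM M := by
    intro x hx y hy
    show cm x y ∈ M ⊓ Subgroup.centralizer (M : Set G)
    exact Subgroup.mem_inf.mpr ⟨hcmM x hx y hy,
      Subgroup.mem_centralizer_iff.mpr (fun c hc => (hCl2 x hx y hy c hc).symm)⟩
  have hcmr : ∀ x ∈ M, ∀ y ∈ M, (cm x y) ^ r = 1 := by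
    intro x hx y hy
    rw [← cm_pow_left' (hCl2 x hx y hy x hx) r]
    unfold cm
    rw [hpow x hx y hy]
    group
  have hzM : cm a b ∈ M := hcmM a ha b hb
  have hz1 : cm a b ≠ 1 := by
    intro h
    apply hab
    have h' : a * b * a⁻¹ * b⁻¹ = 1 := h
    calc a * b = (a * b * a⁻¹ * b⁻¹) * (b * a) := by group
      _ = b * a := by rw [h', one_mul]
  have hzA : cm a b ∈ ZM M := hcmA a ha b hb
  have hzr : (cm a b) ^ r = 1 := hcmr a ha b hb
  have hzord : orderOf (cm a b) = r := orderOf_eq_prime hzr hz1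
  have hcomm : ∀ x ∈ M, ∀ y ∈ M, cm x y ∈ Subgroup.zpowers (cm a b) := by
    intro x hx y hy
    exact cyc_mem' (ZM M) hcyc hr hzA hzord (hcmA x hx y hy) (hcmr x hx y hy)
  -- apply SQ to Q := ↥M
  have hz'c : (⟨cm a b, hzM⟩ : M) ∈ Subgroup.center M := by
    rw [Subgroup.mem_center_iff]
    intro c
    apply Subtype.ext
    exact (hCl2 a ha b hb c c.2).symm
  have hz'ord : orderOf (⟨cm a b, hzM⟩ : M) = r := by
    rw [← hzord]
    exact Subgroup.orderOf_mk _ hzM
  have hcomm' : ∀ x y : M, cm x y ∈ Subgroup.zpowers (⟨cm a b, hzM⟩ : M) := by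
    intro x y
    obtain ⟨k, hk⟩ := hcomm x x.2 y y.2
    refine ⟨k, ?_⟩
    apply Subtype.ext
    simpa [cm] using hk
  obtain ⟨d, hd⟩ := hSq (Q := M) r ⟨cm a b, hzM⟩ hr hz'c hz'ord hcomm'
  have hdpos : 0 < d := by
    by_contra h0
    have hd0 : d = 0 := by omega
    rw [hd0, Nat.mul_zero, pow_zero, Subgroup.index_eq_one] at hd
    apply hnab
    intro x hx y hy
    have h1 : (⟨x, hx⟩ : M) ∈ Subgroup.center M := by rw [hd]; trivial
    have h2 := Subgroup.mem_center_iff.mp h1 ⟨y, hy⟩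
    exact (congrArg Subtype.val h2).symm
  -- apply DEG
  have hcommK : ∀ a ∈ M, ∀ f ∈ KA ρ (ZM M), toE ρ a * f = f * toE ρ a := by
    intro a ha f hf
    unfold KA at hf
    induction hf using Algebra.adjoin_induction with
    | mem x hx =>
      obtain ⟨a', ha', rfl⟩ := hx
      have ha'' : a' ∈ M ⊓ Subgroup.centralizer (M : Set G) := ha'
      rw [← toE_mul', ← toE_mul']
      congr 1
      exact Subgroup.mem_centralizer_iff.mp (Subgroup.mem_inf.mp ha'').2 a ha
    | algebraMap c => exact (Algebra.commutes c _).symm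
    | add x y _ _ hx hy => rw [mul_add, add_mul, hx, hy]
    | mul x y _ _ hx hy => rw [← mul_assoc, hx, mul_assoc, hy, mul_assoc]
  obtain ⟨m, hm1, hm2⟩ := hDeg ρ hinj M (KA ρ (ZM M)) hfld hCl2
    (fun a ha hcen => Algebra.subset_adjoin (Set.mem_image_of_mem _
      (show a ∈ M ⊓ Subgroup.centralizer (M : Set G) from Subgroup.mem_inf.mpr
        ⟨ha, Subgroup.mem_centralizer_iff.mpr (fun c hc => (hcen c hc).symm)⟩)))
    hcommK
  have hrdm : r ^ d ≤ m := by
    rw [hd, mul_comm, pow_mul] at hm2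
    exact (Nat.pow_le_pow_iff_left (by norm_num)).mp hm2
  have hmpos : 0 < m := lt_of_lt_of_le (pow_pos hr.pos d) hrdm
  have hmn : m ≤ n := by
    rw [hcard] at hm1
    have hdvd : Nat.card (KA ρ (ZM M)) ∣ q ^ n := by
      rw [hm1]
      exact dvd_pow_self _ hmpos.ne'
    obtain ⟨j, hj, hjeq⟩ := (Nat.dvd_prime_pow hq).1 hdvd
    rw [hjeq, ← pow_mul] at hm1
    have hjm : n = j * m := Nat.pow_right_injective hq.two_le hm1
    rcases Nat.eq_zero_or_pos j with h0 | hpos
    · rw [h0, zero_mul] at hjm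
      omega
    · rw [hjm]
      exact Nat.le_mul_of_pos_left m hpos
  have hodd : r = 2 → Odd q := by
    intro hr2
    by_contra hnodd
    have hq2 : q = 2 := (Nat.Prime.eq_two_or_odd' hq).resolve_right hnodd
    have hfK : toE ρ (cm a b) - 1 ∈ KA ρ (ZM M) :=
      sub_mem (Algebra.subset_adjoin (Set.mem_image_of_mem _ hzA)) (one_mem _)
    have hfne : toE ρ (cm a b) - 1 ≠ 0 := by
      intro h
      apply hz1
      apply hinj
      rw [map_one]
      ext v
      have h3 := congrArg (fun f : Module.End (ZMod q) V => f v) h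
      simp [toE] at h3
      simpa using sub_eq_zero.mp h3
    have hfinj := hfld.2 _ hfK hfne
    have h2' : (2 : ZMod q) = 0 := by
      have h3 : ((2 : ℕ) : ZMod q) = 0 :=
        (ZMod.natCast_eq_zero_iff 2 q).mpr (by rw [hq2])
      exact_mod_cast h3
    have h2 : ∀ v : V, v + v = 0 := by
      intro v
      rw [← two_smul (ZMod q) v, h2', zero_smul]
    have hzz : cm a b * cm a b = 1 := by
      rw [← pow_two, ← hr2]
      exact hzr
    have hff : ∀ v : V, (toE ρ (cm a b) - 1) ((toE ρ (cm a b) - 1) v) = 0 := by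
      intro v
      have e1 : ρ (cm a b) (ρ (cm a b) v) = v := by
        rw [← LinearEquiv.mul_apply, ← map_mul, hzz, map_one]
        rfl
      simp only [toE, LinearMap.sub_apply, Module.End.one_apply, LinearEquiv.coe_coe, map_sub, e1]
      calc v - ρ (cm a b) v - (ρ (cm a b) v - v)
          = (v + v) - (ρ (cm a b) v + ρ (cm a b) v) := by abel
        _ = 0 := by rw [h2, h2, sub_zero]
    apply hfne
    ext v
    exact hfinj ((hff v).trans (map_zero _).symm)
  refine ⟨d, hdpos, hrdm.trans hmn, hodd, ?_⟩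
  intro k hk
  have h := hXSyl M p r hp hr (Ne.symm hrp) hMn hMr hFpf k hk
  rwa [hd] at h

end Cfsg.Agent.Lib.Helper90.HUPT
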